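import Groth.Agent.Lib.ProjSpace.BaseChange
import Groth.Prelude.Def_P1
import Mathlib.AlgebraicGeometry.Morphisms.UniversallyOpen
import Mathlib.AlgebraicGeometry.PullbackCarrier
import Mathlib.AlgebraicGeometry.ResidueField
import Mathlib.Topology.Connected.Clopen

/-! # Connectedness of fibres of `P^n_S → S` -/

universe u

open CategoryTheory CategoryTheory.Limits AlgebraicGeometry

namespace Groth.Agent.Lib.ProjConn

open Groth.Agent.Lib.ProjSpace

/-- The fibres of `P^n_S → S` are preconnected. -/
theorem isPreconnected_preimage_singleton (n : ℕ) {S : Scheme.{u}} (s : S) :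
    _root_.IsPreconnected (CohB1.ProjSpaceOver.toBase n S ⁻¹' {s}) := by
  have hp := BaseChange.isPullback_overMap n (S.fromSpecResidueField s)
  haveI : IrreducibleSpace (CohB1.ProjSpace n (S.residueField s) :) := Basic.irreducibleSpace_projSpace n _
  haveI : PreconnectedSpace (CohB1.ProjSpaceOver n (Spec (S.residueField s)) :) := by
    refine (BaseChange.overSpecIso n (R := S.residueField s)).inv.homeomorph.surjective.denseRange.preconnectedSpace
      (BaseChange.overSpecIso n (R := S.residueField s)).inv.continuous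
  have h : Set.range (BaseChange.overMap n (S.fromSpecResidueField s)) =
      CohB1.ProjSpaceOver.toBase n S ⁻¹' {s} := by
    rw [← Scheme.range_fromSpecResidueField s]
    rw [← Scheme.Pullback.range_fst (f := CohB1.ProjSpaceOver.toBase n S)
      (g := S.fromSpecResidueField s), ← hp.isoPullback_hom_fst, Scheme.Hom.comp_base,
      TopCat.coe_comp, Set.range_comp, (Set.range_eq_univ (f := ⇑hp.isoPullback.hom)).mpr hp.isoPullback.hom.homeomorph.surjective,
      Set.image_univ]
  rw [← h]
  exact isPreconnected_range (BaseChange.overMap n (S.fromSpecResidueField s)).continuous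

/-- A clopen subset of `P^n_S` is a union of fibres. -/
theorem fibre_subset_of_isClopen (n : ℕ) {S : Scheme.{u}} {V : Set (CohB1.ProjSpaceOver n S)}
    (hV : IsClopen V) {p q : CohB1.ProjSpaceOver n S} (hp : p ∈ V)
    (h : CohB1.ProjSpaceOver.toBase n S q = CohB1.ProjSpaceOver.toBase n S p) : q ∈ V :=
  (isPreconnected_preimage_singleton n (CohB1.ProjSpaceOver.toBase n S p)).subset_isClopen hV
    ⟨p, rfl, hp⟩ h

/-- `P^n_S` is preconnected if `S` is. -/
theorem preconnectedSpace (n : ℕ) (S : Scheme.{u}) [PreconnectedSpace S] :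
    PreconnectedSpace (CohB1.ProjSpaceOver n S :) := by
  haveI := BaseChange.isProper_toBase n S
  haveI := BaseChange.smooth_toBase n S
  have hc : IsClosedMap (CohB1.ProjSpaceOver.toBase n S) :=
    (CohB1.ProjSpaceOver.toBase n S).isClosedMap
  have ho : IsOpenMap (CohB1.ProjSpaceOver.toBase n S) :=
    (CohB1.ProjSpaceOver.toBase n S).isOpenMap
  rw [preconnectedSpace_iff_clopen]
  intro V hV
  by_contra! hne
  obtain ⟨⟨p, hp⟩, h2⟩ : V.Nonempty ∧ V ≠ Set.univ := hne
  obtain ⟨q, hq⟩ := (Set.ne_univ_iff_exists_notMem _).mp h2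
  have := IsClopen.eq_univ (s := CohB1.ProjSpaceOver.toBase n S '' V)
    ⟨hc _ hV.1, ho _ hV.2⟩ ⟨_, ⟨p, hp, rfl⟩⟩
  obtain ⟨p', hp', he⟩ := (this ▸ Set.mem_univ (CohB1.ProjSpaceOver.toBase n S q) :
    CohB1.ProjSpaceOver.toBase n S q ∈ CohB1.ProjSpaceOver.toBase n S '' V)
  exact hq (fibre_subset_of_isClopen n hV hp' he.symm)

theorem sect_toBase (S : Scheme.{u}) (i : Fin (1 + 1)) :
    P1.sect S i ≫ CohB1.ProjSpaceOver.toBase 1 S = 𝟙 S := pullback.lift_snd _ _ _

end Groth.Agent.Lib.ProjConn
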